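import Groth.Agent.FibBasisLib.Basic
import Groth.Agent.CAlgBasics.UnivInj
import Groth.Agent.FlatLocus.Gen

/-!
# Bases of a fibre and flatness at a prime
-/

set_option autoImplicit false
set_option linter.style.haveILetI false
set_option linter.unusedSectionVars false
set_option maxHeartbeats 1000000
set_option backward.isDefEq.respectTransparency false

universe u

open TensorProduct

noncomputable section

namespace Groth.Agent.FibBasisLib

variable {R S : Type u} [CommRing R] [CommRing S] [Algebra R S]
  {N : Type u} [AddCommGroup N] [Module S N] [Module R N] [IsScalarTower R S N] {r : ℕ}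

theorem mem_smul_top_of_forall (rr : Ideal R) (v : Fin r → S) (hv : ∀ i, v i ∈ rr.map (algebraMap R S)) :
    v ∈ (rr • ⊤ : Submodule R (Fin r → S)) := by
  rw [← Finset.univ_sum_single v]
  refine Submodule.sum_mem _ fun i _ => ?_
  have h1 : v i ∈ (rr • ⊤ : Submodule R S) := by
    rw [Ideal.smul_top_eq_map]
    exact hv i
  have h2 := Submodule.mem_map_of_mem (f := LinearMap.single R (fun _ : Fin r => S) i) h1
  rw [Submodule.map_smul''] at h2
  exact Submodule.smul_mono le_rfl le_top h2

variable [Algebra.FiniteType R S] [Module.Flat R S]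

/-- If the localization at the generic point of the fibre is flat, the map is bijective there. -/
theorem bijective_at (rr : Ideal R) [rr.IsPrime] (P : Ideal S) [P.IsPrime] [P.LiesOver rr]
    (hP : P ≤ rr.map (algebraMap R S)) [Module.Finite S N] (α : (Fin r → S) →ₗ[S] N)
    (hα : Function.Bijective (α.baseChange P.ResidueField))
    (hflat : Module.Flat R (LocalizedModule P.primeCompl N)) :
    Function.Bijective (LocalizedModule.map P.primeCompl α) := by
  refine ⟨?_, surjective_map_of_residueField P α hα.2⟩
  let A := Localization.AtPrime rr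
  let B := Localization.AtPrime P
  letI : Algebra A B := Localization.AtPrime.algebraOfLiesOver rr P
  haveI : IsScalarTower R A B := inferInstance
  let X := LocalizedModule P.primeCompl (Fin r → S)
  let Y := LocalizedModule P.primeCompl N
  letI : Module A X := Module.compHom X (algebraMap A B)
  letI : Module A Y := Module.compHom Y (algebraMap A B)
  haveI : IsScalarTower A B X := .of_algebraMap_smul fun _ _ => rfl
  haveI : IsScalarTower A B Y := .of_algebraMap_smul fun _ _ => rfl
  haveI : IsScalarTower R A X := .of_algebraMap_smul fun c x => by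
    show algebraMap A B (algebraMap R A c) • x = c • x
    rw [← IsScalarTower.algebraMap_apply R A B, IsScalarTower.algebraMap_apply R S B,
      algebraMap_smul B (algebraMap R S c) x, algebraMap_smul S c x]
  haveI : IsScalarTower R A Y := .of_algebraMap_smul fun c x => by
    show algebraMap A B (algebraMap R A c) • x = c • x
    rw [← IsScalarTower.algebraMap_apply R A B, IsScalarTower.algebraMap_apply R S B,
      algebraMap_smul B (algebraMap R S c) x, algebraMap_smul S c x]
  haveI : Module.Flat R Y := hflat
  haveI : Module.Flat A Y := (Module.flat_iff_of_isLocalization A rr.primeCompl Y).mpr inferInstance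
  haveI : IsLocalHom (algebraMap A B) :=
    Localization.isLocalHom_localRingHom rr P (algebraMap R S) Ideal.LiesOver.over
  haveI : Algebra.EssFiniteType S B := Algebra.EssFiniteType.of_isLocalization B P.primeCompl
  haveI : Algebra.EssFiniteType R B := Algebra.EssFiniteType.comp R S B
  haveI : Algebra.EssFiniteType A B := Algebra.EssFiniteType.of_comp R A B
  haveI : Module.Finite B X := Module.Finite.of_isLocalizedModule P.primeCompl (LocalizedModule.mkLinearMap P.primeCompl (Fin r → S))
  let u : X →ₗ[A] Y := (LocalizedModule.map P.primeCompl α).restrictScalars A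
  suffices hu : Function.Injective (u.lTensor (IsLocalRing.ResidueField A)) by
    have h := (UILLib.main (A := A) (B := B) u hu).1 A
    intro x y hxy
    have h1 := @h (x ⊗ₜ 1) (y ⊗ₜ 1) (by rw [LinearMap.rTensor_tmul, LinearMap.rTensor_tmul]; exact congrArg (· ⊗ₜ[A] (1 : A)) hxy)
    simpa using congrArg (TensorProduct.rid A X) h1
  rw [injective_iff_map_eq_zero]
  intro z hz
  let m := IsLocalRing.maximalIdeal A
  obtain ⟨w, rfl⟩ : ∃ w : X, (1 : A ⧸ m) ⊗ₜ[A] w = z := TensorProduct.mk_surjective A X (A ⧸ m) Ideal.Quotient.mk_surjective z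
  have hw : u w ∈ (m • ⊤ : Submodule A Y) := by
    rw [← Submodule.Quotient.mk_eq_zero, ← CAlgBasics.quotTensorEquivQuotSMul_one_tmul]
    have hz' : (1 : A ⧸ m) ⊗ₜ[A] u w = 0 := hz
    rw [hz', map_zero]
  suffices hwm : w ∈ (m • ⊤ : Submodule A X) by
    rw [show (1 : IsLocalRing.ResidueField A) = (1 : A ⧸ m) from rfl]
    apply (TensorProduct.quotTensorEquivQuotSMul X m).injective
    rw [map_zero, CAlgBasics.quotTensorEquivQuotSMul_one_tmul, Submodule.Quotient.mk_eq_zero]
    exact hwm
  let K := P.ResidueField
  have hunit : ∀ s : P.primeCompl, IsUnit (algebraMap S (Module.End S (K ⊗[S] N)) s) := fun s => by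
    have hs : algebraMap S K s ≠ 0 := fun h => s.2 (Ideal.algebraMap_residueField_eq_zero.mp h)
    rw [Module.End.isUnit_iff]
    refine ⟨fun a b hab => smul_right_injective _ hs ?_, fun b => ⟨(algebraMap S K s)⁻¹ • b, ?_⟩⟩
    · simpa [algebraMap_smul] using hab
    · show (s : S) • (algebraMap S K s)⁻¹ • b = b
      rw [← algebraMap_smul K (s : S), smul_smul, mul_inv_cancel₀ hs, one_smul]
  let φ : Y →ₗ[S] K ⊗[S] N :=
    IsLocalizedModule.lift P.primeCompl (LocalizedModule.mkLinearMap P.primeCompl N) (TensorProduct.mk S K N 1) hunit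
  have hφ : ∀ y ∈ (m • ⊤ : Submodule A Y), φ y = 0 := by
    intro y hy
    refine Submodule.smul_induction_on hy (fun a ha y _ => ?_) fun a b ha hb => by rw [map_add, ha, hb, add_zero]
    obtain ⟨c, s, rfl⟩ := IsLocalization.exists_mk'_eq rr.primeCompl a
    have hc : c ∈ rr := (IsLocalization.AtPrime.mk'_mem_maximal_iff A rr c s).mp ha
    have hs : algebraMap R S s ∈ P.primeCompl := fun h => s.2 (by
      show (s : R) ∈ rr
      exact (Ideal.mem_of_liesOver P rr _).mpr h)
    refine ((Module.End.isUnit_iff _).mp (hunit ⟨_, hs⟩)).1 ?_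
    show algebraMap R S (s : R) • φ _ = algebraMap R S (s : R) • 0
    rw [smul_zero, ← map_smul]
    have h1 : algebraMap R S (s : R) • IsLocalization.mk' A c s • y = algebraMap R S c • y := by
      rw [algebraMap_smul S (s : R), algebraMap_smul S c, ← algebraMap_smul A (s : R), smul_smul,
        IsLocalization.mk'_spec'_mk, algebraMap_smul A c]
    have hcK : algebraMap S K (algebraMap R S c) = 0 :=
      Ideal.algebraMap_residueField_eq_zero.mpr (by
        rw [← Ideal.mem_comap, ← Ideal.under_def, ← Ideal.LiesOver.over (p := rr) (P := P)]; exact hc)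
    rw [h1, map_smul, ← algebraMap_smul K (algebraMap R S c), hcK, zero_smul]
  obtain ⟨⟨v, s⟩, hvs⟩ := IsLocalizedModule.surj P.primeCompl (LocalizedModule.mkLinearMap P.primeCompl (Fin r → S)) w
  change (s : S) • w = LocalizedModule.mk v 1 at hvs
  have h2 : φ (LocalizedModule.mk (α v) 1) = (1 : K) ⊗ₜ[S] α v :=
    IsLocalizedModule.lift_apply P.primeCompl (LocalizedModule.mkLinearMap P.primeCompl N) _ hunit (α v)
  have h3 : (1 : K) ⊗ₜ[S] v = 0 := by
    apply hα.1
    rw [map_zero, LinearMap.baseChange_tmul, ← h2, ← LocalizedModule.map_mk P.primeCompl α v 1, ← hvs]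
    show φ (((LocalizedModule.map P.primeCompl α).restrictScalars S) ((s : S) • w)) = 0
    rw [map_smul, map_smul]
    show (s : S) • φ (u w) = 0
    rw [hφ _ hw, smul_zero]
  have hv : ∀ i, v i ∈ P := fun i => by
    have h4 := congrArg ((LinearMap.proj (R := S) (φ := fun _ : Fin r => S) i).lTensor K) h3
    rw [LinearMap.lTensor_tmul, map_zero] at h4
    have h5 := congrArg (TensorProduct.rid S K) h4
    rw [TensorProduct.rid_tmul, map_zero, Algebra.smul_def, mul_one] at h5
    exact Ideal.algebraMap_residueField_eq_zero.mp h5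
  obtain ⟨c, hc⟩ := IsLocalizedModule.map_units (LocalizedModule.mkLinearMap P.primeCompl (Fin r → S)) s
  let ψ : (Fin r → S) →ₗ[S] X := (c⁻¹ : (Module.End S X)ˣ).1 ∘ₗ LocalizedModule.mkLinearMap P.primeCompl _
  have hψ : ψ v = w := by
    have h6 : c.1 w = (s : S) • w := by rw [hc]; rfl
    show (c⁻¹ : (Module.End S X)ˣ).1 (LocalizedModule.mk v 1) = w
    rw [← hvs, ← h6, ← Module.End.mul_apply, Units.inv_mul, Module.End.one_apply]
  rw [← hψ]
  refine Submodule.smul_induction_on (mem_smul_top_of_forall rr v fun i => hP (hv i)) (fun a ha x _ => ?_)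
    fun a b ha hb => by rw [map_add]; exact add_mem ha hb
  have h7 : ψ (a • x) = algebraMap R A a • ψ x := by
    rw [LinearMap.map_smul_of_tower, algebraMap_smul]
  rw [h7]
  exact Submodule.smul_mem_smul ((IsLocalization.AtPrime.to_map_mem_maximal_iff A rr a).mpr ha) Submodule.mem_top

/-- A prime of the fibre over a smaller prime avoiding what `P` avoids. -/
theorem exists_liesOver_of_le (rr : Ideal R) [rr.IsPrime] (P : Ideal S) [P.IsPrime] [P.LiesOver rr]
    (p : Ideal R) [p.IsPrime] (hp : p ≤ rr) :
    ∃ Q : Ideal S, Q.IsPrime ∧ Q.LiesOver p ∧ ∀ t ∈ P.primeCompl, t ∉ Q := by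
  obtain ⟨Q, hQP, hQ, hQp⟩ := Ideal.exists_ideal_le_liesOver_of_le (p := p) (q := rr) P hp
  exact ⟨Q, hQ, hQp, fun t ht htQ => ht (hQP htQ)⟩

/-- The fibres over the primes are covered by the generic point and the inverted scalars. -/
theorem cond_of_algebraMapSubmonoid (rr : Ideal R) [rr.IsPrime] (P : Ideal S) [P.IsPrime] [P.LiesOver rr]
    (T : Submonoid S) (hT : Algebra.algebraMapSubmonoid S rr.primeCompl ≤ T)
    (p : Ideal R) [p.IsPrime] :
    (∃ e ∈ p, algebraMap R S e ∈ T) ∨
      ∃ Q : Ideal S, Q.IsPrime ∧ Q.LiesOver p ∧ ∀ t ∈ P.primeCompl, t ∉ Q := by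
  by_cases hp : p ≤ rr
  · exact Or.inr (exists_liesOver_of_le rr P p hp)
  · obtain ⟨e, he, her⟩ := SetLike.not_le_iff_exists.mp hp
    exact Or.inl ⟨e, he, hT ⟨e, her, rfl⟩⟩

theorem algebraMapSubmonoid_le (rr : Ideal R) [rr.IsPrime] (q : Ideal S) [q.IsPrime] [q.LiesOver rr] :
    Algebra.algebraMapSubmonoid S rr.primeCompl ≤ q.primeCompl := by
  rintro _ ⟨e, he, rfl⟩ h
  exact he ((Ideal.mem_of_liesOver q rr e).mpr h)

theorem generic_le (rr : Ideal R) (q : Ideal S) [q.LiesOver rr] (P : Ideal S)
    (hP : P ≤ rr.map (algebraMap R S)) : P ≤ q :=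
  hP.trans (Ideal.map_le_iff_le_comap.mpr fun x hx => (Ideal.mem_of_liesOver q rr x).mp hx)

theorem liesOver_generic (rr : Ideal R) [rr.IsPrime] (q : Ideal S) [q.IsPrime] [q.LiesOver rr] :
    (rr.map (algebraMap R S)).LiesOver rr :=
  ⟨le_antisymm (fun _ hx => Ideal.mem_map_of_mem _ hx) fun x hx =>
    (Ideal.mem_of_liesOver q rr x).mpr (generic_le rr q _ le_rfl hx)⟩

/-- The exact sequence of localizations. -/
theorem exact_map (T : Submonoid S) (α : (Fin r → S) →ₗ[S] N) :
    Function.Exact (LocalizedModule.map T α) (LocalizedModule.map T (LinearMap.range α).mkQ) :=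
  LocalizedModule.map_exact T α _ (LinearMap.exact_map_mkQ_range α)

/-- Flatness at `q` from a flat cokernel and injectivity. -/
theorem flatAt_of_injective (q : Ideal S) [q.IsPrime] (α : (Fin r → S) →ₗ[S] N)
    (hinj : Function.Injective (LocalizedModule.map q.primeCompl α))
    (hC : Module.Flat R (LocalizedModule q.primeCompl (N ⧸ LinearMap.range α))) :
    Module.Flat R (LocalizedModule q.primeCompl N) := by
  haveI := flat_localized_free (R := R) q.primeCompl r
  haveI := hC
  exact CAlgBasics.flat_of_exact (f := (LocalizedModule.map q.primeCompl α).restrictScalars R)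
    (g := (LocalizedModule.map q.primeCompl (LinearMap.range α).mkQ).restrictScalars R) hinj
    (exact_map q.primeCompl α) (LocalizedModule.map_surjective _ _ (Submodule.mkQ_surjective _))

/-- Universal injectivity after inverting a set of elements outside a prime. -/
theorem univInj_map [Algebra.FinitePresentation R S]
    (hdom : ∀ (p : Ideal R) [p.IsPrime], IsDomain (p.Fiber S))
    (T T₂ : Submonoid S) (hle : T ≤ T₂) (α : (Fin r → S) →ₗ[S] N)
    (hcond : ∀ (p : Ideal R) [p.IsPrime], (∃ e ∈ p, algebraMap R S e ∈ T) ∨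
      ∃ Q : Ideal S, Q.IsPrime ∧ Q.LiesOver p ∧ ∀ t ∈ T₂, t ∉ Q)
    (hbij : Function.Bijective (LocalizedModule.map T₂ α))
    (Q : Type u) [AddCommGroup Q] [Module R Q] :
    Function.Injective (((LocalizedModule.map T α).restrictScalars R).rTensor Q) := by
  haveI := flat_localized_free (R := R) T r
  exact univInj_of_bijective hdom T T₂ hle hcond α hbij
    (LocalizedModule.mkLinearMap T (Fin r → S)) (LocalizedModule.mkLinearMap T N)
    ((LocalizedModule.map T α).restrictScalars S) (fun x => LocalizedModule.map_mk T α x 1)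
    (IsLocalizedModule.lift T (LocalizedModule.mkLinearMap T N) (LocalizedModule.mkLinearMap T₂ N)
      fun t => IsLocalizedModule.map_units (LocalizedModule.mkLinearMap T₂ N) ⟨t.1, hle t.2⟩)
    (fun n => IsLocalizedModule.lift_apply T (LocalizedModule.mkLinearMap T N) _ _ n) Q

/-- The cokernel of a map which is bijective at the generic point is flat at `q` if the target is. -/
theorem flatAt_coker [Algebra.FinitePresentation R S]
    (hdom : ∀ (p : Ideal R) [p.IsPrime], IsDomain (p.Fiber S))
    (rr : Ideal R) [rr.IsPrime] (P : Ideal S) [P.IsPrime] [P.LiesOver rr]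
    (q : Ideal S) [q.IsPrime] [q.LiesOver rr] (hPq : P ≤ q) (α : (Fin r → S) →ₗ[S] N)
    (hbij : Function.Bijective (LocalizedModule.map P.primeCompl α))
    (hflat : Module.Flat R (LocalizedModule q.primeCompl N)) :
    Module.Flat R (LocalizedModule q.primeCompl (N ⧸ LinearMap.range α)) := by
  haveI := hflat
  refine CAlgBasics.flat_coker_of_injective_rTensor_quotient
    (f := (LocalizedModule.map q.primeCompl α).restrictScalars R)
    (g := (LocalizedModule.map q.primeCompl (LinearMap.range α).mkQ).restrictScalars R)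
    (exact_map q.primeCompl α) (LocalizedModule.map_surjective _ _ (Submodule.mkQ_surjective _)) fun I _ => ?_
  refine univInj_map hdom q.primeCompl P.primeCompl (fun _ ht hP => ht (hPq hP)) α
    (fun p _ => cond_of_algebraMapSubmonoid rr P q.primeCompl (algebraMapSubmonoid_le rr q) p) hbij _

/-- A universally injective map is injective. -/
theorem injective_of_univInj {M M' : Type u} [AddCommGroup M] [Module R M] [AddCommGroup M'] [Module R M']
    (f : M →ₗ[R] M') (hf : FlatCA.UnivInj R f) : Function.Injective f := fun x y hxy => by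
  have h1 := @hf R _ _ ((1 : R) ⊗ₜ[R] x) ((1 : R) ⊗ₜ[R] y) (by
    rw [LinearMap.lTensor_tmul, LinearMap.lTensor_tmul, hxy])
  simpa using congrArg (TensorProduct.lid R _) h1

end Groth.Agent.FibBasisLib
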