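import Groth.Agent.UnivInjFib.Main
import Groth.Agent.UILLib.Assemble
import Groth.Agent.FibAssLib.Fibre
import Groth.Agent.PureLib.GeomIntegral

/-!
# Maps from free modules which are bases on a fibre
-/

set_option autoImplicit false
set_option linter.style.haveILetI false
set_option linter.unusedSectionVars false
set_option maxHeartbeats 1000000
set_option backward.isDefEq.respectTransparency false

universe u

open TensorProduct

noncomputable section

namespace Groth.Agent.FibBasisLib

section Elementwise

variable {S M N : Type u} [CommRing S] [AddCommGroup M] [Module S M] [AddCommGroup N] [Module S N]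

theorem injective_map_iff (T : Submonoid S) (α : M →ₗ[S] N) :
    Function.Injective (LocalizedModule.map T α) ↔ ∀ x, α x = 0 → ∃ t ∈ T, t • x = 0 := by
  constructor
  · intro h x hx
    have h1 : LocalizedModule.map T α (LocalizedModule.mk x 1) = LocalizedModule.map T α 0 := by
      rw [LocalizedModule.map_mk, hx, LocalizedModule.zero_mk, map_zero]
    obtain ⟨t, ht⟩ := (IsLocalizedModule.eq_zero_iff T (LocalizedModule.mkLinearMap T M)).mp (h h1)
    exact ⟨t.1, t.2, ht⟩
  · intro h
    rw [injective_iff_map_eq_zero]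
    intro z hz
    induction z using LocalizedModule.induction_on with
    | h m s =>
      rw [LocalizedModule.map_mk, ← LocalizedModule.zero_mk (1 : T), LocalizedModule.mk_eq] at hz
      obtain ⟨u, hu⟩ := hz
      simp only [one_smul, smul_zero] at hu
      obtain ⟨t, ht, ht0⟩ := h ((u : S) • m) (by rw [map_smul]; exact hu)
      rw [← LocalizedModule.zero_mk (1 : T), LocalizedModule.mk_eq]
      refine ⟨⟨t, ht⟩ * u, ?_⟩
      simp only [one_smul, smul_zero]
      show (t * (u : S)) • m = 0
      rw [mul_smul, ht0]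

theorem surjective_map_iff (T : Submonoid S) (α : M →ₗ[S] N) :
    Function.Surjective (LocalizedModule.map T α) ↔ ∀ n, ∃ t ∈ T, t • n ∈ LinearMap.range α := by
  constructor
  · intro h n
    obtain ⟨z, hz⟩ := h (LocalizedModule.mk n 1)
    induction z using LocalizedModule.induction_on with
    | h m s =>
      rw [LocalizedModule.map_mk, LocalizedModule.mk_eq] at hz
      obtain ⟨u, hu⟩ := hz
      simp only [one_smul] at hu
      refine ⟨(u : S) * s, T.mul_mem u.2 s.2, (u : S) • m, ?_⟩
      rw [map_smul, mul_smul]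
      exact hu
  · intro h z
    induction z using LocalizedModule.induction_on with
    | h n s =>
      obtain ⟨t, ht, m, hm⟩ := h n
      refine ⟨LocalizedModule.mk m (⟨t, ht⟩ * s), ?_⟩
      rw [LocalizedModule.map_mk, LocalizedModule.mk_eq]
      refine ⟨1, ?_⟩
      simp only [one_smul]
      show (s : S) • α m = (t * (s : S)) • n
      rw [hm, ← mul_smul, mul_comm]

theorem bijective_map_of_le {T T' : Submonoid S} (hle : T ≤ T') {α : M →ₗ[S] N}
    (h : Function.Bijective (LocalizedModule.map T α)) :
    Function.Bijective (LocalizedModule.map T' α) := by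
  refine ⟨(injective_map_iff T' α).mpr fun x hx => ?_, (surjective_map_iff T' α).mpr fun n => ?_⟩
  · obtain ⟨t, ht, h0⟩ := (injective_map_iff T α).mp h.1 x hx
    exact ⟨t, hle ht, h0⟩
  · obtain ⟨t, ht, h0⟩ := (surjective_map_iff T α).mp h.2 n
    exact ⟨t, hle ht, h0⟩

theorem injective_map_of_le {T T' : Submonoid S} (hle : T ≤ T') {α : M →ₗ[S] N}
    (h : Function.Injective (LocalizedModule.map T α)) :
    Function.Injective (LocalizedModule.map T' α) :=
  (injective_map_iff T' α).mpr fun x hx =>
    let ⟨t, ht, h0⟩ := (injective_map_iff T α).mp h x hx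
    ⟨t, hle ht, h0⟩

/-- Injectivity passes to a generisation. -/
theorem injective_map_of_prime {P q : Ideal S} [P.IsPrime] [q.IsPrime] (hPq : P ≤ q) {α : M →ₗ[S] N}
    (h : Function.Injective (LocalizedModule.map q.primeCompl α)) :
    Function.Injective (LocalizedModule.map P.primeCompl α) :=
  injective_map_of_le (T := q.primeCompl) (T' := P.primeCompl) (fun _ ht hP => ht (hPq hP)) h

/-- A map which is onto on the residue field is onto at the prime. -/
theorem surjective_map_of_residueField [Module.Finite S N] (P : Ideal S) [P.IsPrime] (α : M →ₗ[S] N)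
    (h : Function.Surjective (α.baseChange P.ResidueField)) :
    Function.Surjective (LocalizedModule.map P.primeCompl α) := by
  rw [surjective_map_iff]
  intro n
  let C := N ⧸ LinearMap.range α
  have hsub : Subsingleton (P.ResidueField ⊗[S] C) := by
    refine subsingleton_of_forall_eq 0 fun y => ?_
    obtain ⟨x, rfl⟩ := LinearMap.lTensor_surjective P.ResidueField (LinearMap.range α).mkQ_surjective y
    obtain ⟨w, rfl⟩ := h x
    show (LinearMap.range α).mkQ.lTensor P.ResidueField (α.lTensor P.ResidueField w) = 0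
    rw [← LinearMap.lTensor_comp_apply, LinearMap.range_mkQ_comp, LinearMap.lTensor_zero, LinearMap.zero_apply]
  have hnm : (⟨P, inferInstance⟩ : PrimeSpectrum S) ∉ Module.support S C := fun hm =>
    not_nontrivial_iff_subsingleton.mpr hsub
      ((Module.mem_support_iff_nontrivial_residueField_tensorProduct _).mp hm)
  obtain ⟨t, ht, h0⟩ := Module.notMem_support_iff'.mp hnm (Submodule.Quotient.mk n)
  exact ⟨t, ht, (Submodule.Quotient.mk_eq_zero _).mp (by rw [Submodule.Quotient.mk_smul]; exact h0)⟩

/-- A basis of the fibre lifts to a map from a free module. -/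
theorem exists_map [Module.Finite S N] (P : Ideal S) [P.IsPrime] :
    ∃ (r : ℕ) (α : (Fin r → S) →ₗ[S] N), Function.Bijective (α.baseChange P.ResidueField) := by
  let K := P.ResidueField
  let f : N → K ⊗[S] N := fun n => 1 ⊗ₜ n
  have hspan : Submodule.span K (Set.range f) = ⊤ := by
    rw [eq_top_iff]
    rintro z -
    induction z with
    | zero => exact zero_mem _
    | tmul c n =>
      rw [show c ⊗ₜ[S] n = c • f n by simp [f, TensorProduct.smul_tmul']]
      exact Submodule.smul_mem _ _ (Submodule.subset_span ⟨n, rfl⟩)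
    | add a b ha hb => exact add_mem ha hb
  obtain ⟨b, hb, hbspan, hli⟩ := exists_linearIndependent K (Set.range f)
  let B₀ : Module.Basis b K (K ⊗[S] N) := Module.Basis.mk hli (by
    rw [Subtype.range_coe, hbspan, hspan])
  haveI : Finite b := Module.Finite.finite_basis B₀
  let e := Finite.equivFin b
  let B := B₀.reindex e
  have hpre : ∀ i, ∃ n : N, f n = B i := fun i => by
    obtain ⟨n, hn⟩ := hb (e.symm i).2
    exact ⟨n, by rw [hn]; simp [B, B₀]⟩
  choose x hx using hpre
  let α := (Pi.basisFun S (Fin (Nat.card b))).constr S x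
  refine ⟨_, α, ?_⟩
  let B' := Algebra.TensorProduct.basis K (Pi.basisFun S (Fin (Nat.card b)))
  have : α.baseChange K = (B'.equiv B (Equiv.refl _)).toLinearMap := by
    refine B'.ext fun i => ?_
    rw [LinearEquiv.coe_coe, Module.Basis.equiv_apply, Equiv.refl_apply, Algebra.TensorProduct.basis_apply,
      LinearMap.baseChange_tmul, show α (Pi.basisFun S _ i) = x i from Module.Basis.constr_basis _ _ _ _]
    exact hx i
  rw [this]
  exact (B'.equiv B (Equiv.refl _)).bijective

end Elementwise

section Fibres

variable {R S : Type u} [CommRing R] [CommRing S] [Algebra R S]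

theorem flat_localized_free [Module.Flat R S] (T : Submonoid S) (r : ℕ) :
    Module.Flat R (LocalizedModule T (Fin r → S)) :=
  haveI : Module.Flat S (Localization T) := IsLocalization.flat _ T
  haveI : Module.Flat S (LocalizedModule T (Fin r → S)) :=
    Module.Flat.of_linearEquiv ((LocalizedModule.equivTensorProduct T (Fin r → S)).restrictScalars S)
  Module.Flat.trans R S _

theorem isLocalizedModule_bot {M : Type u} [AddCommGroup M] [Module S M] :
    IsLocalizedModule (⊥ : Submonoid S) (LinearMap.id : M →ₗ[S] M) where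
  map_units := fun x => by
    rw [Submonoid.mem_bot.mp x.2, map_one]
    exact isUnit_one
  surj := fun y => ⟨(y, 1), one_smul _ y⟩
  exists_of_eq := fun h => ⟨1, by simpa using h⟩

variable {r : ℕ}

/-- Multiplication by an element with nonzero image in a domain fibre is injective. -/
theorem eq_zero_of_smul (p : Ideal R) [p.IsPrime] [IsDomain (p.Fiber S)] {t : S}
    (ht : CAlgFib.ι (S := S) p t ≠ 0) (w : (Fin r → S) ⊗[R] p.ResidueField) (hw : t • w = 0) : w = 0 := by
  let π : Fin r → ((Fin r → S) ⊗[R] p.ResidueField →ₗ[R] p.Fiber S) := fun i =>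
    (TensorProduct.comm R S p.ResidueField).toLinearMap ∘ₗ
      (LinearMap.proj (R := R) (φ := fun _ : Fin r => S) i).rTensor p.ResidueField
  have hsum : ∀ v : (Fin r → S) ⊗[R] p.ResidueField, v = ∑ i, (LinearMap.single R (fun _ : Fin r => S) i).rTensor
      p.ResidueField ((TensorProduct.comm R S p.ResidueField).symm (π i v)) := by
    intro v
    induction v with
    | zero => simp
    | tmul x k =>
      simp only [π, LinearMap.coe_comp, Function.comp_apply, LinearEquiv.coe_coe, LinearEquiv.symm_apply_apply,
        LinearMap.rTensor_tmul, LinearMap.proj_apply, ← TensorProduct.sum_tmul]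
      rw [show ∑ i, LinearMap.single R (fun _ : Fin r => S) i (x i) = x from Finset.univ_sum_single x]
    | add a b ha hb =>
      simp only [map_add, Finset.sum_add_distrib]
      rw [← ha, ← hb]
  have hmul : ∀ (i : Fin r) (v : (Fin r → S) ⊗[R] p.ResidueField), π i (t • v) = CAlgFib.ι (S := S) p t * π i v := by
    intro i v
    induction v with
    | zero => simp
    | tmul x k => simp [π, TensorProduct.smul_tmul', CAlgFib.ι]
    | add a b ha hb => simp only [smul_add, map_add, ha, hb, mul_add]
  rw [hsum w]
  refine Finset.sum_eq_zero fun i _ => ?_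
  have h1 := hmul i w
  rw [hw, map_zero] at h1
  rw [(mul_eq_zero.mp h1.symm).resolve_left ht, map_zero, map_zero]

variable [Algebra.FinitePresentation R S] [Module.Flat R S]

/-- Two localizations of a free module. -/
theorem univInj_localization (hdom : ∀ (p : Ideal R) [p.IsPrime], IsDomain (p.Fiber S))
    (T₁ T₂ : Submonoid S)
    (hcond : ∀ (p : Ideal R) [p.IsPrime], (∃ e ∈ p, algebraMap R S e ∈ T₁) ∨
      ∃ Q : Ideal S, Q.IsPrime ∧ Q.LiesOver p ∧ ∀ t ∈ T₂, t ∉ Q)
    {X Y : Type u} [AddCommGroup X] [Module S X] [Module R X] [IsScalarTower R S X] [Module.Flat R X]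
    [AddCommGroup Y] [Module S Y] [Module R Y] [IsScalarTower R S Y] [Module.Flat R Y]
    (g₁ : (Fin r → S) →ₗ[S] X) [IsLocalizedModule T₁ g₁] (g₂ : (Fin r → S) →ₗ[S] Y)
    [IsLocalizedModule T₂ g₂] (h : X →ₗ[S] Y) (hh : ∀ x, h (g₁ x) = g₂ x)
    (Q : Type u) [AddCommGroup Q] [Module R Q] : Function.Injective ((h.restrictScalars R).rTensor Q) := by
  refine UnivInjFib.univInj_of_fibres T₁ g₁ (h.restrictScalars R) (fun p _ => ?_) Q
  rw [LinearMap.lTensor_inj_iff_rTensor_inj, injective_iff_map_eq_zero]
  intro z hz
  let K := p.ResidueField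
  let G₁ := AlgebraTensorModule.rTensor R K g₁
  let G₂ := AlgebraTensorModule.rTensor R K g₂
  let H := AlgebraTensorModule.rTensor R K h
  have hH : ∀ w, H (G₁ w) = G₂ w := by
    intro w
    induction w with
    | zero => simp
    | tmul x k =>
      show h (g₁ x) ⊗ₜ[R] k = g₂ x ⊗ₜ[R] k
      rw [hh]
    | add a b ha hb => simp only [map_add, ha, hb]
  have hz' : H z = 0 := hz
  rcases hcond p with ⟨e, hep, heT⟩ | ⟨Q₀, hQ₀, hQp, hQT⟩
  · refine ((Module.End.isUnit_iff _).mp (IsLocalizedModule.map_units G₁ ⟨_, heT⟩)).1 ?_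
    show algebraMap R S e • z = algebraMap R S e • 0
    rw [smul_zero, algebraMap_smul]
    clear hz hz'
    induction z with
    | zero => rw [smul_zero]
    | tmul x k =>
      rw [← TensorProduct.tmul_smul, Algebra.smul_def, Ideal.algebraMap_residueField_eq_zero.mpr hep, zero_mul,
        TensorProduct.tmul_zero]
    | add a b ha hb => rw [smul_add, ha, hb, add_zero]
  · haveI := hdom p
    obtain ⟨⟨w, t⟩, hwt⟩ := IsLocalizedModule.surj T₁ G₁ z
    refine ((Module.End.isUnit_iff _).mp (IsLocalizedModule.map_units G₁ t)).1 ?_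
    show (t : S) • z = (t : S) • 0
    rw [smul_zero]
    change (t : S) • z = G₁ w at hwt
    have h1 : G₂ w = 0 := by rw [← hH, ← hwt, map_smul, hz', smul_zero]
    obtain ⟨s, hs⟩ := (IsLocalizedModule.eq_zero_iff T₂ G₂).mp h1
    have hne : CAlgFib.ι (S := S) p s.1 ≠ 0 := fun h0 => by
      haveI := hQ₀
      haveI := hQp
      obtain ⟨hpr, hc⟩ := FibAssLib.fiberIdeal_spec p Q₀
      refine hQT s.1 s.2 ?_
      rw [← hc, Ideal.mem_comap, h0]
      exact zero_mem _
    rw [hwt, eq_zero_of_smul p hne w hs, map_zero]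

variable {N : Type u} [AddCommGroup N] [Module S N] [Module R N] [IsScalarTower R S N]

/-- A map of a free module which is bijective after localization at `T₂` is universally injective after
localization at a smaller set which meets the same fibres. -/
theorem univInj_of_bijective (hdom : ∀ (p : Ideal R) [p.IsPrime], IsDomain (p.Fiber S))
    (T₁ T₂ : Submonoid S) (hle : T₁ ≤ T₂)
    (hcond : ∀ (p : Ideal R) [p.IsPrime], (∃ e ∈ p, algebraMap R S e ∈ T₁) ∨
      ∃ Q : Ideal S, Q.IsPrime ∧ Q.LiesOver p ∧ ∀ t ∈ T₂, t ∉ Q)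
    (α : (Fin r → S) →ₗ[S] N) (hbij : Function.Bijective (LocalizedModule.map T₂ α))
    {X Z : Type u} [AddCommGroup X] [Module S X] [Module R X] [IsScalarTower R S X] [Module.Flat R X]
    [AddCommGroup Z] [Module S Z] [Module R Z] [IsScalarTower R S Z]
    (g₁ : (Fin r → S) →ₗ[S] X) [IsLocalizedModule T₁ g₁] (gN : N →ₗ[S] Z) (φ : X →ₗ[S] Z)
    (hφ : ∀ x, φ (g₁ x) = gN (α x)) (l : Z →ₗ[S] LocalizedModule T₂ N)
    (hl : ∀ n, l (gN n) = LocalizedModule.mk n 1)
    (Q : Type u) [AddCommGroup Q] [Module R Q] : Function.Injective ((φ.restrictScalars R).rTensor Q) := by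
  haveI := flat_localized_free (R := R) T₂ r
  have hu : ∀ t : T₁, IsUnit (algebraMap S (Module.End S (LocalizedModule T₂ (Fin r → S))) t) :=
    fun t => IsLocalizedModule.map_units (LocalizedModule.mkLinearMap T₂ (Fin r → S)) ⟨t.1, hle t.2⟩
  let g₂ := LocalizedModule.mkLinearMap T₂ (Fin r → S)
  let h := IsLocalizedModule.lift T₁ g₁ g₂ hu
  have hh : ∀ x, h (g₁ x) = g₂ x := fun x => IsLocalizedModule.lift_apply T₁ g₁ g₂ hu x
  have hinj := univInj_localization hdom T₁ T₂ hcond g₁ g₂ h hh Q
  let β := LinearEquiv.ofBijective ((LocalizedModule.map T₂ α).restrictScalars R) hbij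
  have hcomp : (LocalizedModule.map T₂ α).restrictScalars S ∘ₗ h = l ∘ₗ φ := by
    refine IsLocalizedModule.ext T₁ g₁ (fun t => IsLocalizedModule.map_units
      (LocalizedModule.mkLinearMap T₂ N) ⟨t.1, hle t.2⟩) (LinearMap.ext fun x => ?_)
    simp only [LinearMap.coe_comp, Function.comp_apply, LinearMap.coe_restrictScalars, hh, hφ, hl]
    exact LocalizedModule.map_mk T₂ α x 1
  refine Function.Injective.of_comp (f := (l.restrictScalars R).rTensor Q) ?_
  rw [← LinearMap.coe_comp, ← LinearMap.rTensor_comp,
    show l.restrictScalars R ∘ₗ φ.restrictScalars R = β.toLinearMap ∘ₗ h.restrictScalars R from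
      LinearMap.ext fun x => (LinearMap.congr_fun hcomp x).symm,
    LinearMap.rTensor_comp, LinearMap.coe_comp]
  exact (TensorProduct.congr β (LinearEquiv.refl R Q)).injective.comp hinj

end Fibres

end Groth.Agent.FibBasisLib
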